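import Mathlib
import Cfsg.Agent.Lib.Coprime.Basic
import Cfsg.Agent.Lib.CoprimeOmega.Basic

/-!
The version of the coprime Omega lemma that also covers `p = 2` (elements of order dividing 4).
-/

set_option autoImplicit false

namespace Cfsg.Agent.Lib.FixedOrder

open Subgroup Cfsg.Agent.Lib.CoprimeOmega
open scoped commutatorElement

variable {G : Type*} [Group G]

/-- A `p'`-element which centralises all elements with `x ^ n = 1` of a `p`-group, where `p` divides `n` and `n(n-1)/2`,
centralises the `p`-group. -/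
theorem commute_of_commute_pow_eq_one [Finite G] {p : ℕ} [Fact p.Prime] {n : ℕ} (hn1 : p ∣ n)
    (hn2 : p ∣ n.choose 2) {a : G}
    (ha : (orderOf a).Coprime p) :
    ∀ {D : Subgroup G}, IsPGroup p D → (∀ x ∈ D, a * x * a⁻¹ ∈ D) →
      (∀ x ∈ D, x ^ n = 1 → a * x = x * a) → ∀ x ∈ D, a * x = x * a := by
  intro D
  induction hD : Nat.card D using Nat.strong_induction_on generalizing D with
  | _ c₀ ih =>
  intro hDp hinv hfix
  rcases eq_or_ne D ⊥ with rfl | hne
  · intro x hx
    rw [mem_bot] at hx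
    simp [hx]
  set S : Set G := {z : G | (∃ x ∈ D, z = x ^ p) ∨ (∃ x ∈ D, ∃ y ∈ D, z = ⁅x, y⁆)} with hS
  have hTD : closure S ≤ D := by
    rw [closure_le]
    rintro z (⟨x, hx, rfl⟩ | ⟨x, hx, y, hy, rfl⟩)
    · exact D.pow_mem hx p
    · rw [commutatorElement_def]
      exact D.mul_mem (D.mul_mem (D.mul_mem hx hy) (D.inv_mem hx)) (D.inv_mem hy)
  have hTlt : closure S < D := by
    obtain ⟨g, hg, hg'⟩ := exists_proper_subgroup_pow_commutator hDp hne
    exact lt_of_le_not_ge hTD fun h => hg' (h hg)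
  have hTinv : ∀ z ∈ closure S, a * z * a⁻¹ ∈ closure S := by
    intro z hz
    induction hz using closure_induction with
    | mem z hz =>
      apply Subgroup.subset_closure
      rcases hz with ⟨x, hx, rfl⟩ | ⟨x, hx, y, hy, rfl⟩
      · exact Or.inl ⟨_, hinv x hx, conj_pow.symm⟩
      · exact Or.inr ⟨_, hinv x hx, _, hinv y hy, conjugate_commutatorElement x y a⟩
    | one => simp
    | mul u v _ _ hu hv =>
      have := mul_mem hu hv
      simpa [mul_assoc] using this
    | inv u _ hu =>
      have := inv_mem hu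
      simpa [mul_assoc] using this
  have hcard : Nat.card (closure S) < c₀ :=
    hD ▸ Set.ncard_lt_ncard hTlt (Set.toFinite _)
  have hT : ∀ z ∈ closure S, a * z = z * a :=
    ih _ hcard rfl (hDp.to_le hTD) hTinv fun x hx => hfix x (hTD hx)
  intro x hx
  -- `z = [x⁻¹, a]`, conjugation by `a` sends `x` to `x z`
  set z := x⁻¹ * (a * x * a⁻¹) with hz
  have hzD : z ∈ D := D.mul_mem (D.inv_mem hx) (hinv x hx)
  have hax : a * x * a⁻¹ = x * z := by rw [hz]; group
  have hfixc : ∀ w ∈ closure S, a * w * a⁻¹ = w := fun w hw => by rw [hT w hw]; group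
  have hnormal : ∀ u ∈ D, ∀ w ∈ closure S, u * w * u⁻¹ ∈ closure S := by
    intro u hu w hw
    have hm : ⁅u, w⁆ ∈ closure S := Subgroup.subset_closure (Or.inr ⟨u, hu, w, hTD hw, rfl⟩)
    have := mul_mem hm hw
    simpa [commutatorElement_def] using this
  suffices haz : a * z = z * a by
    have hz' : x⁻¹ * a * x⁻¹⁻¹ * a⁻¹ = z := by rw [hz]; group
    have hcop : Nat.Coprime (orderOf a) (orderOf z) := by
      obtain ⟨k, hk⟩ := hDp ⟨z, hzD⟩
      have h1 : z ^ p ^ k = 1 := congrArg Subtype.val hk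
      exact Nat.Coprime.coprime_dvd_right (orderOf_dvd_of_pow_eq_one h1) (ha.pow_right k)
    have := Lib.Coprime.commute_of_commute_commutator (a := a) (k := x⁻¹)
      (by rw [hz']; exact haz.symm) (by rw [hz']; exact hcop)
    have h' := this.inv_left
    rw [inv_inv] at h'
    exact h'.eq.symm
  by_cases hW : closure {w : G | ∃ y ∈ D, w = y⁻¹ * (a * y * a⁻¹)} = D
  · -- now `closure S` is central in `D`
    have hcen : ∀ u ∈ D, ∀ w ∈ closure S, u * w = w * u := by
      intro u hu w hw
      have : D ≤ centralizer ({w} : Set G) := by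
        rw [← hW, closure_le]
        rintro _ ⟨y, hy, rfl⟩
        refine mem_centralizer_singleton_iff.mpr ?_
        set z' := y⁻¹ * (a * y * a⁻¹) with hz'
        have h1 := hfixc _ (hnormal y hy w hw)
        have h2 : (a * y * a⁻¹) * (a * w * a⁻¹) * (a * y * a⁻¹)⁻¹ = y * w * y⁻¹ := by
          rw [← h1]; group
        rw [hfixc w hw] at h2
        calc z' * w = y⁻¹ * ((a * y * a⁻¹) * w * (a * y * a⁻¹)⁻¹) * y * z' := by rw [hz']; group
          _ = y⁻¹ * (y * w * y⁻¹) * y * z' := by rw [h2]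
          _ = w * z' := by group
      exact mem_centralizer_singleton_iff.mp (this hu)
    obtain ⟨c, hc, hcS⟩ : ∃ c, z * x = x * z * c ∧ c ∈ closure S :=
      ⟨z⁻¹ * x⁻¹ * z * x, by group, by
        have hm : ⁅z⁻¹, x⁻¹⁆ ∈ closure S :=
          Subgroup.subset_closure (Or.inr ⟨_, D.inv_mem hzD, _, D.inv_mem hx, rfl⟩)
        simpa [commutatorElement_def] using hm⟩
    have hcx : c * x = x * c := (hcen x hx c hcS).symm
    have hcz : c * z = z * c := (hcen z hzD c hcS).symm
    clear_value z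
    have hxm : ∀ m : ℕ, z * x ^ m = x ^ m * z * c ^ m := by
      intro m
      induction m with
      | zero => simp
      | succ m ihm =>
        calc z * x ^ (m + 1) = (z * x ^ m) * x := by rw [pow_succ, mul_assoc]
          _ = x ^ m * z * (c ^ m * x) := by rw [ihm]; simp only [mul_assoc]
          _ = x ^ m * (z * x) * c ^ m := by
            rw [((show Commute c x from hcx).pow_left m).eq]; simp only [mul_assoc]
          _ = x ^ m * (x * z * c) * c ^ m := by rw [hc]
          _ = x ^ (m + 1) * z * c ^ (m + 1) := by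
            rw [pow_succ x m, pow_succ' c m]; simp only [mul_assoc]
    have hxpS : x ^ p ∈ closure S := Subgroup.subset_closure (Or.inl ⟨x, hx, rfl⟩)
    have hcp : c ^ p = 1 := by
      have h1 := hxm p
      rw [hcen z hzD _ hxpS] at h1
      simpa using h1
    obtain ⟨k, hk⟩ := hn2
    obtain ⟨l, hl⟩ := hn1
    have hxnS : x ^ n ∈ closure S := by rw [hl, pow_mul]; exact pow_mem hxpS l
    have h3 := mul_pow_of_commute hc hcx hcz n
    rw [← hax, conj_pow, hfixc _ hxnS, hk, pow_mul, hcp, one_pow, mul_one] at h3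
    exact hfix z hzD (by simpa using h3)
  · have hWD : closure {w : G | ∃ y ∈ D, w = y⁻¹ * (a * y * a⁻¹)} ≤ D := by
      rw [closure_le]
      rintro _ ⟨y, hy, rfl⟩
      exact D.mul_mem (D.inv_mem hy) (hinv y hy)
    have hWinv : ∀ w ∈ closure {w : G | ∃ y ∈ D, w = y⁻¹ * (a * y * a⁻¹)},
        a * w * a⁻¹ ∈ closure {w : G | ∃ y ∈ D, w = y⁻¹ * (a * y * a⁻¹)} := by
      intro w hw
      induction hw using closure_induction with
      | mem w hw =>
        obtain ⟨y, hy, rfl⟩ := hw
        exact Subgroup.subset_closure ⟨_, hinv y hy, by group⟩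
      | one => simp
      | mul u v _ _ hu hv => simpa [mul_assoc] using mul_mem hu hv
      | inv u _ hu => simpa [mul_assoc] using inv_mem hu
    have hlt := lt_of_le_of_ne hWD hW
    exact ih _ (hD ▸ Set.ncard_lt_ncard hlt (Set.toFinite _)) rfl (hDp.to_le hWD) hWinv
      (fun w hw => hfix w (hWD hw)) z (Subgroup.subset_closure ⟨x, hx, rfl⟩)

/-- The exponent to be used for the prime `p`. -/
theorem exists_omega_exponent (p : ℕ) [hp : Fact p.Prime] {e : ℕ} (he : 1 ≤ e)
    (he2 : p = 2 → 2 ≤ e) : ∃ n, p ∣ n ∧ p ∣ n.choose 2 ∧ n ∣ p ^ e := by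
  rcases eq_or_ne p 2 with rfl | hp2
  · exact ⟨4, by norm_num, by decide, Nat.pow_dvd_pow 2 (he2 rfl)⟩
  · exact ⟨p, dvd_rfl, hp.out.dvd_choose_self (by norm_num) (lt_of_le_of_ne hp.out.two_le hp2.symm),
      dvd_pow_self p (by omega)⟩

end Cfsg.Agent.Lib.FixedOrder
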