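import Mathlib
import Cfsg.Agent.Lib.FixedOrder.Basic
import Cfsg.Agent.Lib.Supersolvable.Basic
import Cfsg.Agent.Lib.Supersolvable.MinNormal
import Cfsg.Agent.Lib.Coprime.Quotient

/-!
Extensions of normal `p`-subgroups with normal subgroups of one fixed order by supersolvable groups.
-/

set_option autoImplicit false

namespace Cfsg.Agent.Lib.FixedOrder

open Subgroup
open scoped commutatorElement

universe u

/-- The subgroup generated by commutators and `(p-1)`-st powers. -/
def powCore (p : ℕ) (X : Type*) [Group X] : Subgroup X :=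
  closure {x | (∃ a b : X, x = ⁅a, b⁆) ∨ ∃ a : X, x = a ^ (p - 1)}

variable {X : Type u} [Group X]

theorem commutator_mem_powCore (p : ℕ) (a b : X) : ⁅a, b⁆ ∈ powCore p X :=
  subset_closure (Or.inl ⟨a, b, rfl⟩)

theorem pow_mem_powCore (p : ℕ) (a : X) : a ^ (p - 1) ∈ powCore p X :=
  subset_closure (Or.inr ⟨a, rfl⟩)

theorem powCore_normal (p : ℕ) : (powCore p X).Normal := by
  refine ⟨fun n hn g => ?_⟩
  have := (powCore p X).mul_mem (commutator_mem_powCore p g n) hn
  simpa [commutatorElement_def] using this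

theorem map_powCore {Q : Type*} [Group Q] (p : ℕ) (f : X →* Q) (hf : Function.Surjective f) :
    (powCore p X).map f = powCore p Q := by
  unfold powCore
  rw [MonoidHom.map_closure]
  congr 1
  ext y
  constructor
  · rintro ⟨x, ⟨a, b, rfl⟩ | ⟨a, rfl⟩, rfl⟩
    · exact Or.inl ⟨f a, f b, map_commutatorElement f a b⟩
    · exact Or.inr ⟨f a, map_pow f a _⟩
  · rintro (⟨a, b, rfl⟩ | ⟨a, rfl⟩)
    · obtain ⟨a, rfl⟩ := hf a; obtain ⟨b, rfl⟩ := hf b
      exact ⟨_, Or.inl ⟨a, b, rfl⟩, map_commutatorElement f a b⟩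
    · obtain ⟨a, rfl⟩ := hf a
      exact ⟨_, Or.inr ⟨a, rfl⟩, map_pow f a _⟩

/-- A `p'`-element of the power core is killed by every map to an abelian group of exponent
dividing `p^k (p-1)`. -/
theorem map_eq_one_of_mem_powCore {p k : ℕ} {A : Type*} [CommGroup A] (θ : X →* A)
    (hA : ∀ a : A, a ^ (p ^ k * (p - 1)) = 1) {g : X} (hg : g ∈ powCore p X)
    (hn : (orderOf g).Coprime p) : θ g = 1 := by
  have hle : powCore p X ≤ ((powMonoidHom (p ^ k)).comp θ).ker := by
    refine (closure_le _).mpr ?_
    rintro x (⟨a, b, rfl⟩ | ⟨a, rfl⟩)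
    · refine MonoidHom.mem_ker.mpr ?_
      rw [map_commutatorElement]
      exact commutatorElement_eq_one_iff_commute.mpr (Commute.all _ _)
    · refine MonoidHom.mem_ker.mpr ?_
      show (θ (a ^ (p - 1))) ^ p ^ k = 1
      rw [map_pow, ← pow_mul, mul_comm]
      exact hA _
  have h1 : θ g ^ p ^ k = 1 := MonoidHom.mem_ker.mp (hle hg)
  have h2 : θ g ^ orderOf g = 1 := by rw [← map_pow, pow_orderOf_eq_one, map_one]
  have h3 := pow_gcd_eq_one.mpr ⟨h2, h1⟩
  rwa [(hn.pow_right k).gcd_eq_one, pow_one] at h3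

/-- `p'`-elements of the power core centralise every cyclic normal `p`-subgroup. -/
theorem commute_of_mem_powCore [Finite X] {p : ℕ} [hp : Fact p.Prime] {C : Subgroup X} [C.Normal]
    [hc : IsCyclic C] (hC : IsPGroup p C) {g : X} (hg : g ∈ powCore p X)
    (hn : (orderOf g).Coprime p) {z : X} (hz : z ∈ C) : g * z = z * g := by
  let θ : X →* (ZMod (Nat.card C))ˣ :=
    (IsCyclic.mulAutMulEquiv (G := C)).toMonoidHom.comp MulAut.conjNormal
  obtain ⟨k, hk⟩ := hC.exists_card_eq
  have hA : ∀ a : (ZMod (Nat.card C))ˣ, a ^ (p ^ k * (p - 1)) = 1 := by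
    intro a
    have hdvd : (Nat.card C).totient ∣ p ^ k * (p - 1) := by
      rw [hk]
      rcases Nat.eq_zero_or_pos k with rfl | hk0
      · simp
      · rw [Nat.totient_prime_pow hp.out hk0]
        exact mul_dvd_mul_right (Nat.pow_dvd_pow p (Nat.sub_le k 1)) _
    obtain ⟨c, hc'⟩ := hdvd
    rw [hc', pow_mul, ZMod.pow_totient, one_pow]
  have h1 := map_eq_one_of_mem_powCore θ hA hg hn
  have h2 : MulAut.conjNormal g = (1 : MulAut C) :=
    (IsCyclic.mulAutMulEquiv (G := C)).injective (h1.trans (map_one _).symm)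
  have h3 := congrArg (fun φ : MulAut C => (φ ⟨z, hz⟩ : X)) h2
  simp only [MulAut.conjNormal_apply, MulAut.one_apply] at h3
  calc g * z = (g * z * g⁻¹) * g := by group
    _ = z * g := by rw [h3]

/-- An endomorphism with `T ^ (p-1) = 1` of a nonzero `F_p`-space has an eigenvalue in `F_p`. -/
theorem exists_eigen {p : ℕ} [hp : Fact p.Prime] {V : Type*} [AddCommGroup V] [Module (ZMod p) V]
    [Nontrivial V] (T : Module.End (ZMod p) V) (hT : T ^ (p - 1) = 1) :
    ∃ a : ZMod p, ∃ v : V, v ≠ 0 ∧ T v = a • v := by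
  by_contra hcon
  push Not at hcon
  have hinj : ∀ s : Finset (ZMod p), ∀ v : V,
      (Polynomial.aeval T (∏ a ∈ s, (Polynomial.X - Polynomial.C a))) v = 0 → v = 0 := by
    intro s
    induction s using Finset.induction with
    | empty => intro v hv; simpa using hv
    | @insert a s has ih =>
      intro v hv
      rw [Finset.prod_insert has, map_mul, Module.End.mul_apply] at hv
      refine ih v ?_
      by_contra hne
      refine hcon a _ hne ?_
      simp only [map_sub, Polynomial.aeval_X, Polynomial.aeval_C] at hv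
      rw [← sub_eq_zero]
      simpa [Algebra.algebraMap_eq_smul_one] using hv
  obtain ⟨v, hv⟩ := exists_ne (0 : V)
  refine hv (hinj Finset.univ v ?_)
  have hdeg : (Polynomial.X ^ p - Polynomial.X : Polynomial (ZMod p)).natDegree = p :=
    FiniteField.X_pow_card_sub_X_natDegree_eq _ hp.out.one_lt
  have hroots : (Polynomial.X ^ p - Polynomial.X : Polynomial (ZMod p)).roots =
      (Finset.univ : Finset (ZMod p)).val := by
    have := FiniteField.roots_X_pow_card_sub_X (ZMod p)
    rwa [ZMod.card] at this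
  have hmonic : (Polynomial.X ^ p - Polynomial.X : Polynomial (ZMod p)).Monic :=
    Polynomial.monic_X_pow_sub (by
      rw [Polynomial.degree_X]
      exact_mod_cast hp.out.one_lt)
  have hprod := Polynomial.prod_multiset_X_sub_C_of_monic_of_roots_card_eq hmonic (by
    rw [hroots, hdeg, Finset.card_val, Finset.card_univ, ZMod.card])
  rw [hroots] at hprod
  rw [show (∏ a ∈ (Finset.univ : Finset (ZMod p)), (Polynomial.X - Polynomial.C a)) =
    Polynomial.X ^ p - Polynomial.X from hprod]
  have hTp : T ^ p = T := by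
    calc T ^ p = T ^ (p - 1 + 1) := congrArg (T ^ ·) (Nat.sub_add_cancel hp.out.one_le).symm
      _ = T := by rw [pow_succ, hT, one_mul]
  simp [hTp]

theorem exists_eigen_mul_aux {p : ℕ} [hp : Fact p.Prime] {A : Type*} [CommGroup A] [Nontrivial A]
    [Module (ZMod p) (Additive A)] (σ : A →* A) (hσ : ∀ a, σ^[p - 1] a = a) :
    ∃ i : ℕ, ∃ v : A, v ≠ 1 ∧ σ v = v ^ i := by
  let τ : Additive A →+ Additive A := MonoidHom.toAdditive σ
  let T : Module.End (ZMod p) (Additive A) := τ.toZModLinearMap p
  have hT : T ^ (p - 1) = 1 := by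
    refine LinearMap.ext fun v => ?_
    rw [Module.End.pow_apply]
    exact hσ v
  obtain ⟨a, v, hv0, hv⟩ := exists_eigen T hT
  refine ⟨a.val, Additive.toMul v, fun h => hv0 (Additive.toMul.injective h), ?_⟩
  have h2 : T v = a.val • v := by
    rw [hv, ← Nat.cast_smul_eq_nsmul (ZMod p), ZMod.natCast_zmod_val]
  exact congrArg Additive.toMul h2

/-- Multiplicative form of `exists_eigen`. -/
theorem exists_eigen_mul {p : ℕ} [hp : Fact p.Prime] {A : Type*} [CommGroup A] [Nontrivial A]
    (hA : ∀ a : A, a ^ p = 1) (σ : A →* A) (hσ : ∀ a, σ^[p - 1] a = a) :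
    ∃ i : ℕ, ∃ v : A, v ≠ 1 ∧ σ v = v ^ i :=
  @exists_eigen_mul_aux p hp A _ _
    (AddCommGroup.zmodModule (fun v => Additive.toMul.injective (hA (Additive.toMul v)))) σ hσ

/-- If the `p'`-elements of the power core centralise `P` then a minimal normal subgroup of `X`
inside the normal `p`-subgroup `P` is cyclic. -/
theorem isCyclic_minimal [Finite X] {p : ℕ} [hp : Fact p.Prime] {P N : Subgroup X} [hN : N.Normal]
    (hP : IsPGroup p P) (hNP : N ≤ P) (hne : N ≠ ⊥)
    (hmin : ∀ K : Subgroup X, K.Normal → K ≤ N → K = ⊥ ∨ K = N)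
    (h : ∀ g ∈ powCore p X, (orderOf g).Coprime p → ∀ x ∈ P, g * x = x * g) : IsCyclic N := by
  haveI hK0 := powCore_normal (X := X) p
  have hNp : IsPGroup p N := hP.to_le hNP
  -- `powCore` centralises `N`
  have hcent : powCore p X ≤ centralizer (N : Set X) := by
    obtain ⟨R⟩ := (inferInstance : Nonempty (Sylow p (powCore p X)))
    obtain ⟨S, hS⟩ := (R.2.map (powCore p X).subtype).exists_le_sylow
    have hNS : N.subgroupOf (S : Subgroup X) ≠ ⊥ := by
      rw [ne_eq, subgroupOf_eq_bot, disjoint_iff, inf_eq_left.mpr]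
      · exact hne
      · exact le_sup_right.trans_eq (S.3 (S.2.to_sup_of_normal_right hNp) le_sup_left)
    haveI := S.2.isNilpotent
    have := Lib.Nilp.inf_center_ne_bot_of_normal hNS
    obtain ⟨⟨v, hvS⟩, ⟨hvN, hvc⟩, hv1⟩ := SetLike.exists_of_lt (bot_lt_iff_ne_bot.mpr this)
    have hv1' : v ≠ 1 := fun h => hv1 (mem_bot.mpr (Subtype.ext h))
    have hC : N ⊓ centralizer (powCore p X : Set X) = N := by
      refine (hmin _ inferInstance inf_le_left).resolve_left (ne_bot_iff_exists_ne_one.mpr ?_)
      refine ⟨⟨v, hvN, ?_⟩, fun h => hv1' (congrArg Subtype.val h)⟩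
      have hidx : (centralizer ({v} : Set X)).relIndex (powCore p X) = 1 := by
        by_contra hne'
        obtain ⟨q, hq, hqd⟩ := Nat.exists_prime_and_dvd hne'
        haveI : Fact q.Prime := ⟨hq⟩
        rcases eq_or_ne q p with rfl | hqp
        · refine R.not_dvd_index (hqd.trans (index_dvd_of_le
            (K := (centralizer ({v} : Set X)).subgroupOf _) ?_))
          intro r hr
          rw [mem_subgroupOf, mem_centralizer_singleton_iff]
          exact congrArg Subtype.val (mem_center_iff.mp hvc ⟨(r : X), hS ⟨r, hr, rfl⟩⟩)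
        · obtain ⟨S'⟩ := (inferInstance : Nonempty (Sylow q (powCore p X)))
          refine S'.not_dvd_index (hqd.trans (index_dvd_of_le
            (K := (centralizer ({v} : Set X)).subgroupOf _) ?_))
          intro s hs
          rw [mem_subgroupOf, mem_centralizer_singleton_iff]
          refine h _ s.2 ?_ v (hNP hvN)
          obtain ⟨k, hk⟩ := (IsPGroup.iff_orderOf.mp S'.2) ⟨s, hs⟩
          rw [Subgroup.orderOf_mk] at hk
          rw [Subgroup.orderOf_coe, hk]
          exact ((Nat.coprime_primes hq hp.out).mpr hqp).pow_left k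
      exact mem_centralizer_iff.mpr fun y hy =>
        mem_centralizer_singleton_iff.mp (relIndex_eq_one.mp hidx hy)
    rw [le_centralizer_iff]
    exact hC.symm.le.trans inf_le_right
  -- `N` is elementary abelian
  haveI : Group.IsSolvable N := by haveI := hNp.isNilpotent; infer_instance
  haveI hNab : IsMulCommutative N := Lib.Supersolvable.isMulCommutative_of_minimal hne hmin
  have hexp : ∀ v ∈ N, v ^ p = 1 := by
    let K : Subgroup X :=
      { carrier := {v | v ∈ N ∧ v ^ p = 1}
        one_mem' := ⟨one_mem _, one_pow _⟩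
        mul_mem' := by
          rintro a b ⟨ha, ha'⟩ ⟨hb, hb'⟩
          have hab : Commute a b := congrArg Subtype.val (mul_comm' (⟨a, ha⟩ : N) ⟨b, hb⟩)
          exact ⟨mul_mem ha hb, by rw [hab.mul_pow, ha', hb', one_mul]⟩
        inv_mem' := fun {a} ha => ⟨inv_mem ha.1, by rw [inv_pow, ha.2, inv_one]⟩ }
    have hKn : K.Normal := ⟨fun v hv y =>
      ⟨hN.conj_mem v hv.1 y, by rw [conj_pow, hv.2, mul_one, mul_inv_cancel]⟩⟩
    have hK : K = N := by
      refine (hmin K hKn fun v hv => hv.1).resolve_left fun hbot => hne ?_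
      haveI := hNp.isNilpotent
      by_contra hne'
      haveI : Nontrivial N := (nontrivial_iff_ne_bot N).mpr hne'
      obtain ⟨n, hn0, hn⟩ := hNp.nontrivial_iff_card.mp inferInstance
      obtain ⟨u, hu⟩ := exists_prime_orderOf_dvd_card' p
        (show p ∣ Nat.card N from hn ▸ dvd_pow_self p hn0.ne')
      have hmem : (u : X) ∈ K :=
        ⟨u.2, by rw [← Subgroup.coe_pow, ← hu, pow_orderOf_eq_one, Subgroup.coe_one]⟩
      rw [hbot, mem_bot] at hmem
      rw [show u = 1 from Subtype.ext hmem, orderOf_one] at hu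
      exact hp.out.one_lt.ne hu
    intro v hv
    exact (show v ∈ K from hK.symm ▸ hv).2
  haveI : Nontrivial N := (nontrivial_iff_ne_bot N).mpr hne
  -- all elements act by powers
  have hscal : ∀ x : X, ∃ i : ℕ, ∀ v ∈ N, x * v * x⁻¹ = v ^ i := by
    intro x
    letI : CommGroup N := { (inferInstance : Group N) with mul_comm := mul_comm' }
    have hiter : ∀ (k : ℕ) (w : N),
        (((MulAut.conjNormal x : MulAut N).toMonoidHom^[k] w : N) : X) = x ^ k * w * (x ^ k)⁻¹ := by
      intro k
      induction k with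
      | zero => intro w; simp
      | succ k ih =>
        intro w
        rw [Function.iterate_succ_apply']
        show x * (((MulAut.conjNormal x : MulAut N).toMonoidHom^[k] w : N) : X) * x⁻¹ = _
        rw [ih, pow_succ']
        group
    obtain ⟨i, v, hv0, hv⟩ := exists_eigen_mul (p := p)
      (fun w : N => Subtype.ext (hexp _ w.2)) (MulAut.conjNormal x : MulAut N).toMonoidHom
      (fun w => by
        apply Subtype.ext
        rw [hiter]
        have := mem_centralizer_iff.mp (hcent (pow_mem_powCore p x)) _ w.2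
        rw [← this]
        group)
    refine ⟨i, ?_⟩
    let K : Subgroup X :=
      { carrier := {w | w ∈ N ∧ x * w * x⁻¹ = w ^ i}
        one_mem' := ⟨one_mem _, by simp⟩
        mul_mem' := by
          rintro b c ⟨hb, hb'⟩ ⟨hc, hc'⟩
          have hbc : Commute b c := congrArg Subtype.val (mul_comm' (⟨b, hb⟩ : N) ⟨c, hc⟩)
          refine ⟨mul_mem hb hc, ?_⟩
          rw [hbc.mul_pow, ← hb', ← hc']
          group
        inv_mem' := fun {b} hb => ⟨inv_mem hb.1, by rw [inv_pow, ← hb.2]; group⟩ }
    have hKn : K.Normal := by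
      refine ⟨fun w hw y => ⟨hN.conj_mem w hw.1 y, ?_⟩⟩
      have hm : ⁅y⁻¹, x⁆ ∈ powCore p X := commutator_mem_powCore p _ _
      have hc := mem_centralizer_iff.mp (hcent hm) (x * w * x⁻¹) (hN.conj_mem w hw.1 x)
      rw [commutatorElement_def, inv_inv] at hc
      calc x * (y * w * y⁻¹) * x⁻¹
          = y * ((y⁻¹ * x * y * x⁻¹) * (x * w * x⁻¹)) * (y⁻¹ * x * y * x⁻¹)⁻¹ * y⁻¹ := by group
        _ = y * ((x * w * x⁻¹) * (y⁻¹ * x * y * x⁻¹)) * (y⁻¹ * x * y * x⁻¹)⁻¹ * y⁻¹ := by rw [hc]
        _ = y * w ^ i * y⁻¹ := by rw [← hw.2]; group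
        _ = (y * w * y⁻¹) ^ i := conj_pow.symm
    have hK : K = N := by
      refine (hmin K hKn fun w hw => hw.1).resolve_left fun hbot => hv0 ?_
      have hmem : (v : X) ∈ K := ⟨v.2, by simpa using congrArg Subtype.val hv⟩
      rw [hbot, mem_bot] at hmem
      exact Subtype.ext hmem
    intro w hw
    exact (show w ∈ K from hK.symm ▸ hw).2
  obtain ⟨⟨v, hvN⟩, hv1⟩ := exists_ne (1 : N)
  have hv : (zpowers v).Normal := by
    refine ⟨fun w hw y => ?_⟩
    obtain ⟨i, hi⟩ := hscal y
    rw [hi w ((zpowers_le.mpr hvN) hw)]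
    exact pow_mem hw i
  have : zpowers v = N := (hmin _ hv (zpowers_le.mpr hvN)).resolve_left fun h =>
    hv1 (Subtype.ext (zpowers_eq_bot.mp h))
  rw [← this]
  infer_instance

/-- A supersolvable quotient by a normal `p`-subgroup centralised by the `p'`-elements of the
power core gives a supersolvable group. -/
theorem isSupersolvable_of_powCore_commute [Finite X] {p : ℕ} [hp : Fact p.Prime] (P : Subgroup X)
    [P.Normal] (hP : IsPGroup p P) (hq : Cfsg.IsSupersolvable (X ⧸ P))
    (h : ∀ g ∈ powCore p X, (orderOf g).Coprime p → ∀ x ∈ P, g * x = x * g) :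
    Cfsg.IsSupersolvable X := by
  induction hn : Nat.card X using Nat.strong_induction_on generalizing X with
  | _ n ih =>
    rcases eq_or_ne P ⊥ with rfl | hne
    · exact Lib.Supersolvable.of_mulEquiv hq QuotientGroup.quotientBot
    obtain ⟨N, hNn, hNne, hNP, hNmin⟩ := Lib.Components.exists_minimal_normal_le (inferInstance : P.Normal) hne
    haveI := hNn
    haveI := isCyclic_minimal hP hNP hNne hNmin h
    refine Lib.Supersolvable.of_cyclic_extension N ?_
    haveI : (P.map (QuotientGroup.mk' N)).Normal :=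
      (inferInstance : P.Normal).map _ (QuotientGroup.mk'_surjective N)
    refine ih _ (hn ▸ Lib.Supersolvable.card_quotient_lt hNne) (P.map (QuotientGroup.mk' N))
      (hP.map _) (Lib.Supersolvable.of_mulEquiv hq
        (QuotientGroup.quotientQuotientEquivQuotient N P hNP).symm) ?_ rfl
    intro g hg hgo y hy
    obtain ⟨x, hx, rfl⟩ := hy
    rw [← map_powCore p _ (QuotientGroup.mk'_surjective N)] at hg
    obtain ⟨g₀, hg₀, rfl⟩ := hg
    obtain ⟨t, ht1, ht2⟩ := Nat.chineseRemainder
      (n := orderOf (QuotientGroup.mk' N g₀)) (m := p ^ (orderOf g₀).factorization p)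
      (hgo.pow_right _) 1 0
    have hco : (orderOf (g₀ ^ t)).Coprime p := by
      refine Nat.Coprime.coprime_dvd_left ?_
        (Nat.coprime_ordCompl hp.out (orderOf_pos g₀).ne').symm
      refine orderOf_dvd_of_pow_eq_one ?_
      rw [← pow_mul]
      refine orderOf_dvd_iff_pow_eq_one.mp ?_
      conv_lhs => rw [← Nat.ordProj_mul_ordCompl_eq_self (orderOf g₀) p]
      exact mul_dvd_mul_right (Nat.modEq_zero_iff_dvd.mp ht2) _
    have hc := h _ (pow_mem hg₀ t) hco x hx
    have he : QuotientGroup.mk' N (g₀ ^ t) = QuotientGroup.mk' N g₀ := by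
      rw [map_pow]
      exact (pow_eq_pow_iff_modEq.mpr ht1).trans (pow_one _)
    have := congrArg (QuotientGroup.mk' N) hc
    rw [map_mul, map_mul, he] at this
    exact this

/-- When every subgroup of `P` of order `p ^ d` (and `4` for `p ^ d = 2`) is normal in `X`, the
`p'`-elements of the power core centralise `P`. -/
theorem powCore_commute_of_normal [Finite X] {p : ℕ} [hp : Fact p.Prime] (P : Subgroup X)
    [hPn : P.Normal] (hP : IsPGroup p P) {d : ℕ} (hd : 1 ≤ d) (hdP : p ^ d < Nat.card P)
    (hgood : ∀ F : Subgroup X, F ≤ P → (Nat.card F = p ^ d ∨ (p ^ d = 2 ∧ Nat.card F = 4)) →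
      F.Normal) :
    ∀ g ∈ powCore p X, (orderOf g).Coprime p → ∀ x ∈ P, g * x = x * g := by
  intro g hg hn
  by_cases hex : ∃ z ∈ P, orderOf z = p ^ expo p d
  · refine commute_of_fix_order (hd.trans (le_expo p d)) (two_le_expo hd) hP hn
      (fun x hx => hPn.conj_mem x hx g) hex fun z hz hzo => ?_
    haveI : (zpowers z).Normal := by
      refine hgood _ (zpowers_le.mpr hz) ?_
      rcases pow_expo p d with h1 | ⟨h1, h2⟩
      · exact Or.inl (by rw [Nat.card_zpowers, hzo, h1])
      · exact Or.inr ⟨h1, by rw [Nat.card_zpowers, hzo, h2]⟩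
    exact commute_of_mem_powCore (hP.to_le (zpowers_le.mpr hz)) hg hn (mem_zpowers z)
  · push Not at hex
    have hsmall : ∀ y ∈ P, y ^ p ^ d = 1 := by
      intro y hy
      obtain ⟨c, hc⟩ := Nat.pow_dvd_pow p (expo_pred_le p d)
      rw [hc, pow_mul, pow_eq_one_of_no_order hP (hd.trans (le_expo p d)) hex hy, one_pow]
    have hAP : zpowers g ≤ normalizer (P : Set X) := le_top.trans (normalizer_eq_top P).ge
    have hcop : (Nat.card (zpowers g)).Coprime (Nat.card (frattini P)) := by
      obtain ⟨k, hk⟩ := (hP.to_subgroup (frattini P)).exists_card_eq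
      rw [Nat.card_zpowers, hk]
      exact hn.pow_right k
    have htriv : ∀ a ∈ zpowers g, ∀ k ∈ P,
        a * k * a⁻¹ * k⁻¹ ∈ (frattini P).map P.subtype := by
      intro a ha k hk
      have hkP : a * k * a⁻¹ * k⁻¹ ∈ P := mul_mem (hPn.conj_mem k hk a) (inv_mem hk)
      refine ⟨⟨_, hkP⟩, mem_iInf.mpr fun M => mem_iInf.mpr fun hM => ?_, rfl⟩
      haveI hM' : (M.map P.subtype).Normal := by
        refine ⟨?_⟩
        rintro _ ⟨y, hy, rfl⟩ b
        obtain ⟨F, hFM, hyF, hFc⟩ := exists_between (pow_dvd_card_map_coatom hP hdP hM)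
          (mem_map_of_mem P.subtype hy) (hsmall _ y.2)
        exact hFM ((hgood F (hFM.trans (map_subtype_le M)) (Or.inl hFc)).conj_mem _ hyF b)
      let f := QuotientGroup.mk' (M.map P.subtype)
      haveI : (P.map f).Normal := hPn.map _ (QuotientGroup.mk'_surjective _)
      obtain ⟨x, -, hxM⟩ := SetLike.exists_of_lt hM.1.lt_top
      have hsup : M ⊔ zpowers x = ⊤ := hM.2 _ (left_lt_sup.mpr fun hle => hxM (hle (mem_zpowers x)))
      haveI : IsCyclic (P.map f) := by
        have hle : P.map f ≤ zpowers (f x) := by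
          have h1 : P ≤ M.map P.subtype ⊔ zpowers (x : X) := by
            have h2 := congrArg (Subgroup.map P.subtype) hsup
            rw [Subgroup.map_sup, MonoidHom.map_zpowers, ← MonoidHom.range_eq_map,
              range_subtype] at h2
            exact h2.ge
          refine (map_mono (f := f) h1).trans_eq ?_
          rw [Subgroup.map_sup, MonoidHom.map_zpowers, QuotientGroup.map_mk'_self, bot_sup_eq]
        exact isCyclic_of_le hle
      have hga : a ∈ powCore p X := (zpowers_le.mpr hg) ha
      have hgo : (orderOf (f a)).Coprime p :=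
        hn.coprime_dvd_left ((orderOf_map_dvd f a).trans (orderOf_dvd_of_mem_zpowers ha))
      have hfa : f a ∈ powCore p (X ⧸ M.map P.subtype) := by
        rw [← map_powCore p f (QuotientGroup.mk'_surjective _)]
        exact mem_map_of_mem f hga
      have hc := commute_of_mem_powCore (hP.map f) hfa hgo (mem_map_of_mem f hk)
      have hmem : f (a * k * a⁻¹ * k⁻¹) = 1 := by
        simp only [map_mul, map_inv, hc]; group
      obtain ⟨y, hy, hye⟩ := (QuotientGroup.eq_one_iff _).mp hmem
      have : y = ⟨_, hkP⟩ := Subtype.ext hye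
      rwa [← this]
    have := Lib.Coprime.le_centralizer_of_frattini hAP hcop htriv (mem_zpowers g)
    exact fun x hx => (mem_centralizer_iff.mp this x hx).symm

end Cfsg.Agent.Lib.FixedOrder
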